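import Mathlib
import Cfsg.Agent.Lib.Helper5.Ord360.Sylow3

/-!
# A transitive group of degree 11 and order 660 is simple
-/

set_option autoImplicit false

namespace Cfsg.Agent.Lib.Helper5.M11Pt

open MulAction

variable {X : Type*} [Group X] [Finite X] {Ω : Type*} [MulAction X Ω]

theorem card_dvd_of_pretransitive [IsPretransitive X Ω] [Nonempty Ω] :
    Nat.card Ω ∣ Nat.card X := by
  obtain ⟨a⟩ := ‹Nonempty Ω›
  rw [← MulAction.index_stabilizer_of_transitive X a]
  exact Subgroup.index_dvd_card _

theorem pretransitive_of_normal [FaithfulSMul X Ω] [IsPretransitive X Ω]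
    (hp : (Nat.card Ω).Prime) (K : Subgroup X) [K.Normal] (hK : K ≠ ⊥) :
    IsPretransitive K Ω := by
  have : IsPreprimitive X Ω := IsPreprimitive.of_prime_card hp
  apply IsQuasiPreprimitive.isPretransitive_of_normal
  intro h
  apply hK
  rw [Subgroup.eq_bot_iff_forall]
  intro k hk
  apply FaithfulSMul.eq_of_smul_eq_smul (α := Ω)
  intro a
  have ha : a ∈ fixedPoints K Ω := by rw [h]; trivial
  rw [one_smul]
  exact ha ⟨k, hk⟩

theorem no_normal_eleven [FaithfulSMul X Ω] [IsPretransitive X Ω] (hΩ : Nat.card Ω = 11)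
    (hX : 110 < Nat.card X) (Q : Subgroup X) [hQn : Q.Normal] (hQ : Nat.card Q = 11) : False := by
  classical
  have hp : (Nat.card Ω).Prime := by rw [hΩ]; norm_num
  have : Fact (Nat.Prime 11) := ⟨by norm_num⟩
  have : Finite Ω := Nat.finite_of_card_ne_zero (by rw [hΩ]; norm_num)
  have : Nonempty Ω := (Nat.card_pos_iff.mp (by rw [hΩ]; norm_num)).1
  obtain ⟨a⟩ := ‹Nonempty Ω›
  have hQne : Q ≠ ⊥ := by
    rintro rfl
    rw [Subgroup.card_bot] at hQ; omega
  have hQt : IsPretransitive Q Ω := pretransitive_of_normal hp Q hQne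
  obtain ⟨x0, hx0Q, hx0⟩ : ∃ x ∈ Q, x ≠ 1 := by
    by_contra hcon
    push Not at hcon
    exact hQne ((Subgroup.eq_bot_iff_forall _).mpr hcon)
  have hgen : ∀ u ∈ Q, ∃ k : ℤ, u = x0 ^ k := by
    intro u hu
    have h1 : Subgroup.zpowers (⟨x0, hx0Q⟩ : Q) = ⊤ :=
      zpowers_eq_top_of_prime_card hQ (by
        intro h
        exact hx0 (congrArg Subtype.val h))
    have h2 : (⟨u, hu⟩ : Q) ∈ Subgroup.zpowers (⟨x0, hx0Q⟩ : Q) := by rw [h1]; trivial
    obtain ⟨k, hk⟩ := Subgroup.mem_zpowers_iff.mp h2
    refine ⟨k, ?_⟩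
    have := congrArg Subtype.val hk
    simpa using this.symm
  have hidx : (stabilizer X a).index = 11 := by rw [index_stabilizer_of_transitive, hΩ]
  have hcard : Nat.card (stabilizer X a) * 11 = Nat.card X := by
    rw [← hidx]; exact Subgroup.card_mul_index _
  let f : stabilizer X a → Q := fun y => ⟨(y : X) * x0 * (y : X)⁻¹, hQn.conj_mem x0 hx0Q y⟩
  have hf : Function.Injective f := by
    intro y y' hyy
    have h1 : (y : X) * x0 * (y : X)⁻¹ = (y' : X) * x0 * (y' : X)⁻¹ := congrArg Subtype.val hyy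
    have hzc : ((y' : X)⁻¹ * y) * x0 = x0 * ((y' : X)⁻¹ * y) := by
      have h2 : (y : X) * x0 = (y' : X) * x0 * (y' : X)⁻¹ * y := by
        rw [← h1]; group
      calc ((y' : X)⁻¹ * y) * x0 = (y' : X)⁻¹ * ((y : X) * x0) := by group
        _ = (y' : X)⁻¹ * ((y' : X) * x0 * (y' : X)⁻¹ * y) := by rw [h2]
        _ = x0 * ((y' : X)⁻¹ * y) := by group
    have hza : ((y' : X)⁻¹ * y) • a = a := by
      have h3 : (y : X) • a = a := y.2
      have h4 : (y' : X) • a = a := y'.2
      rw [mul_smul, h3, inv_smul_eq_iff, h4]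
    have hz1 : (y' : X)⁻¹ * y = 1 := by
      apply FaithfulSMul.eq_of_smul_eq_smul (α := Ω)
      intro b
      obtain ⟨u, hu⟩ := hQt.exists_smul_eq a b
      obtain ⟨k, hk⟩ := hgen u u.2
      have hub : (u : X) • a = b := hu
      have hcomm : Commute ((y' : X)⁻¹ * y) (x0 ^ k) := Commute.zpow_right hzc k
      rw [one_smul, ← hub, hk, ← mul_smul, hcomm.eq, mul_smul, hza]
    apply Subtype.ext
    exact (inv_mul_eq_one.mp hz1).symm
  have hnot : (1 : Q) ∉ Set.range f := by
    rintro ⟨y, hy⟩
    have h1 : (y : X) * x0 * (y : X)⁻¹ = 1 := congrArg Subtype.val hy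
    apply hx0
    have : x0 = (y : X)⁻¹ * ((y : X) * x0 * (y : X)⁻¹) * y := by group
    rw [this, h1]; group
  have hlt : Nat.card (stabilizer X a) < Nat.card Q := by
    have : Fintype (stabilizer X a) := Fintype.ofFinite _
    have : Fintype Q := Fintype.ofFinite _
    rw [Nat.card_eq_fintype_card, Nat.card_eq_fintype_card]
    exact Fintype.card_lt_of_injective_of_notMem f hf hnot
  omega


/-- arithmetic: Sylow count -/
theorem sylow_count_arith (n m : ℕ) (hm : m ∣ 60) (hn : n ∣ m) (hmod : n % 11 = 1) :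
    n = 1 ∨ n = 12 := by
  have h60 : n ∣ 60 := hn.trans hm
  have hle : n ≤ 60 := Nat.le_of_dvd (by norm_num) h60
  clear hn hm
  interval_cases n <;> omega

theorem simple_of_card_660 [FaithfulSMul X Ω] [IsPretransitive X Ω] (hΩ : Nat.card Ω = 11)
    (hX : Nat.card X = 660) : IsSimpleGroup X := by
  classical
  have hp : (Nat.card Ω).Prime := by rw [hΩ]; norm_num
  have : Fact (Nat.Prime 11) := ⟨by norm_num⟩
  have : Finite Ω := Nat.finite_of_card_ne_zero (by rw [hΩ]; norm_num)
  have : Nonempty Ω := (Nat.card_pos_iff.mp (by rw [hΩ]; norm_num)).1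
  have hnt : Nontrivial X := by
    rw [← Finite.one_lt_card_iff_nontrivial, hX]; norm_num
  refine { exists_pair_ne := hnt.exists_pair_ne, eq_bot_or_eq_top_of_normal := ?_ }
  intro N hN
  by_cases hNb : N = ⊥
  · exact Or.inl hNb
  right
  have hNt : IsPretransitive N Ω := pretransitive_of_normal hp N hNb
  have h11 : 11 ∣ Nat.card N := by
    have := card_dvd_of_pretransitive (X := N) (Ω := Ω)
    rwa [hΩ] at this
  have hN660 : Nat.card N ∣ 660 := by
    rw [← hX]; exact Subgroup.card_subgroup_dvd_card N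
  obtain ⟨m, hm⟩ := h11
  have hm60 : m ∣ 60 := by
    have : 11 * m ∣ 11 * 60 := by rw [← hm]; exact hN660
    exact Nat.dvd_of_mul_dvd_mul_left (by norm_num) this
  have hm11 : ¬ 11 ∣ m := by
    intro h
    have := h.trans hm60
    omega
  obtain ⟨P⟩ : Nonempty (Sylow 11 N) := inferInstance
  have hPc : Nat.card (P : Subgroup N) = 11 := by
    have := Cfsg.Agent.Lib.Helper5.Ord360.sylow_card_eq P 1 m (by rw [hm]; ring) hm11
    simpa using this
  have hPidx : (P : Subgroup N).index = m := by
    have h1 := Subgroup.card_mul_index (P : Subgroup N)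
    rw [hPc, hm] at h1
    exact Nat.eq_of_mul_eq_mul_left (by norm_num) h1
  have hn1 : Nat.card (Sylow 11 N) ∣ m := by
    rw [← hPidx]; exact P.card_dvd_index
  have hn2 : Nat.card (Sylow 11 N) % 11 = 1 := by
    have := card_sylow_modEq_one 11 N
    exact this
  rcases sylow_count_arith _ m hm60 hn1 hn2 with h1 | h12
  · -- the Sylow 11-subgroup of N is normal in X
    exfalso
    have hsub : Subsingleton (Sylow 11 N) := by
      have : Finite (Sylow 11 N) := inferInstance
      exact (Nat.card_eq_one_iff_unique.mp h1).1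
    have hchar : (P : Subgroup N).Characteristic := Sylow.characteristic_of_subsingleton P
    have hnorm : ((P : Subgroup N).map N.subtype).Normal := inferInstance
    have hc : Nat.card ((P : Subgroup N).map N.subtype) = 11 := by
      rw [Subgroup.card_map_of_injective N.subtype_injective, hPc]
    exact no_normal_eleven hΩ (by rw [hX]; norm_num) _ hc
  · -- 132 divides the order of N
    have h12m : 12 ∣ m := by rw [← h12]; exact hn1
    obtain ⟨j, hj⟩ := h12m
    have hj5 : j ∣ 5 := by
      have : 12 * j ∣ 12 * 5 := by rw [← hj]; exact hm60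
      exact Nat.dvd_of_mul_dvd_mul_left (by norm_num) this
    rcases (Nat.dvd_prime (by norm_num : Nat.Prime 5)).mp hj5 with rfl | rfl
    · -- order 132
      exfalso
      have hNc : Nat.card N = 132 := by rw [hm, hj]
      have hnormidx : (Subgroup.normalizer ((P : Subgroup N) : Set N)).index = 12 := by
        rw [← h12]; exact (Sylow.card_eq_index_normalizer P).symm
      have hnormc : Nat.card (Subgroup.normalizer ((P : Subgroup N) : Set N)) = 11 := by
        have h1 := Subgroup.card_mul_index (Subgroup.normalizer ((P : Subgroup N) : Set N))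
        rw [hnormidx, hNc] at h1
        omega
      have hcomm : ∀ a ∈ (P : Subgroup N), ∀ b ∈ (P : Subgroup N), a * b = b * a := by
        have hcyc : IsCyclic (P : Subgroup N) := isCyclic_of_prime_card hPc
        intro a ha b hb
        have := hcyc.isMulCommutative.is_comm.comm (⟨a, ha⟩ : (P : Subgroup N)) ⟨b, hb⟩
        exact congrArg Subtype.val this
      obtain ⟨K, hKn, hKc⟩ := Cfsg.Agent.Lib.Helper5.Ord360.burnside_complement P hcomm
        (by rw [hnormc, hPc])
      rw [hPc, hNc] at hKc
      have hK12 : Nat.card K = 12 := by omega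
      have hKb : K ≠ ⊥ := by
        rintro rfl
        rw [Subgroup.card_bot] at hK12; omega
      have hKt : IsPretransitive K Ω := pretransitive_of_normal (X := N) hp K hKb
      have := card_dvd_of_pretransitive (X := K) (Ω := Ω)
      rw [hΩ, hK12] at this
      omega
    · -- order 660
      apply Subgroup.eq_top_of_card_eq
      rw [hm, hj, hX]

end Cfsg.Agent.Lib.Helper5.M11Pt
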