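import Cfsg.Agent.Lib.Helper6.GolayM11
import Cfsg.Agent.Lib.Helper5.M11Pt.Simple660

/-!
# The stabilizer in `M11` of a point of the complementary dodecad: order 660, simple
-/

set_option autoImplicit false

namespace Cfsg.Agent.Lib.Helper5.M11Pt

open Cfsg Cfsg.Agent.Lib.Helper6.Golay MulAction
open scoped Pointwise

theorem card_golayPt : Fintype.card GolayPt = 24 := by decide

theorem support₂_add_one (w : GolayPt → ZMod 2) :
    support₂ (w + fun _ => (1 : ZMod 2)) = (support₂ w)ᶜ := by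
  ext p
  simp only [support₂, Finset.mem_filter, Finset.mem_univ, true_and, Pi.add_apply,
    Finset.mem_compl, not_not]
  generalize w p = c
  revert c
  decide

theorem compl_mem_dodecads {d : Finset GolayPt} (hd : d ∈ dodecads) : dᶜ ∈ dodecads := by
  obtain ⟨⟨w, hw, rfl⟩, hc⟩ := hd
  refine ⟨⟨w + fun _ => (1 : ZMod 2), golayCode.add_mem hw (Submodule.subset_span (Or.inr rfl)),
    support₂_add_one w⟩, ?_⟩
  rw [Finset.card_compl, hc, card_golayPt]

theorem exists_emb3 {d : Finset GolayPt} (hd : d.card = 12) {a b : GolayPt} (ha : a ∉ d)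
    (hb : b ∉ d) (hab : a ≠ b) :
    ∃ x : Fin 3 ↪ GolayPt, x 0 = a ∧ x 1 = b ∧ ∀ i, x i ∉ d := by
  classical
  have hlt : ({a, b} : Finset GolayPt).card < dᶜ.card := by
    rw [Finset.card_compl, hd, card_golayPt]
    calc ({a, b} : Finset GolayPt).card ≤ 2 := Finset.card_le_two
      _ < 24 - 12 := by norm_num
  obtain ⟨c, hc, hcab⟩ := Finset.exists_mem_notMem_of_card_lt_card hlt
  rw [Finset.mem_compl] at hc
  simp only [Finset.mem_insert, Finset.mem_singleton, not_or] at hcab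
  refine ⟨⟨![a, b, c], ?_⟩, rfl, rfl, ?_⟩
  · intro i j hij
    fin_cases i <;> fin_cases j <;> simp_all
  · intro i
    fin_cases i
    · exact ha
    · exact hb
    · exact hc

theorem exists_other {d : Finset GolayPt} (hd : d.card = 12) (a : GolayPt) :
    ∃ b, b ∉ d ∧ b ≠ a := by
  classical
  have hlt : ({a} : Finset GolayPt).card < dᶜ.card := by
    rw [Finset.card_compl, hd, card_golayPt, Finset.card_singleton]
    norm_num
  obtain ⟨c, hc, hca⟩ := Finset.exists_mem_notMem_of_card_lt_card hlt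
  rw [Finset.mem_compl] at hc
  rw [Finset.mem_singleton] at hca
  exact ⟨c, hc, hca⟩

theorem exists_map_outside {d : Finset GolayPt} (hd : d ∈ dodecads) {p : GolayPt} (hp : p ∈ d)
    {x y : GolayPt} (hx : x ∉ d) (hy : y ∉ d) :
    ∃ g : Equiv.Perm GolayPt, (g ∈ M24 ∧ g • d = d ∧ g p = p) ∧ g x = y := by
  obtain ⟨x', hx'd, hx'⟩ := exists_other hd.2 x
  obtain ⟨y', hy'd, hy'⟩ := exists_other hd.2 y
  obtain ⟨X, hX0, _, hXd⟩ := exists_emb3 hd.2 hx hx'd hx'.symm
  obtain ⟨Y, hY0, _, hYd⟩ := exists_emb3 hd.2 hy hy'd hy'.symm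
  obtain ⟨g, hg, hgXY⟩ := exists_stab_dodecad_point_map hd hp X Y hXd hYd
  exact ⟨g, hg, by rw [← hX0, ← hY0]; exact hgXY 0⟩

theorem exists_map_outside_fix {d : Finset GolayPt} (hd : d ∈ dodecads) {p : GolayPt}
    (hp : p ∈ d) {q x y : GolayPt} (hq : q ∉ d) (hx : x ∉ d) (hy : y ∉ d) (hxq : x ≠ q)
    (hyq : y ≠ q) :
    ∃ g : Equiv.Perm GolayPt, (g ∈ M24 ∧ g • d = d ∧ g p = p) ∧ g q = q ∧ g x = y := by
  obtain ⟨X, hX0, hX1, hXd⟩ := exists_emb3 hd.2 hq hx hxq.symm
  obtain ⟨Y, hY0, hY1, hYd⟩ := exists_emb3 hd.2 hq hy hyq.symm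
  obtain ⟨g, hg, hgXY⟩ := exists_stab_dodecad_point_map hd hp X Y hXd hYd
  refine ⟨g, hg, ?_, ?_⟩
  · have := hgXY 0
    rwa [hX0, hY0] at this
  · have := hgXY 1
    rwa [hX1, hY1] at this

/-- an element of `M24` stabilizing a dodecad and fixing every point outside it is trivial -/
theorem eq_one_of_fix_outside {d : Finset GolayPt} (hd : d ∈ dodecads) {g : Equiv.Perm GolayPt}
    (hg : g ∈ M24) (hfix : ∀ x, x ∉ d → g x = x) : g = 1 := by
  classical
  have hdc := compl_mem_dodecads hd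
  have hgd : g • dᶜ = dᶜ := by
    ext y
    rw [mem_smul_iff_inv_mem]
    constructor
    · intro h
      rw [Finset.mem_compl] at h
      have := hfix _ h
      rw [perm_apply_inv] at this
      rw [this, Finset.mem_compl]; exact h
    · intro h
      rw [Finset.mem_compl] at h
      have h1 : g⁻¹ y = y := by
        rw [Equiv.Perm.inv_eq_iff_eq]; exact (hfix y h).symm
      rw [h1, Finset.mem_compl]; exact h
  have hcard : Fintype.card (Fin 5) ≤ Fintype.card ↥dᶜ := by
    rw [Fintype.card_coe, hdc.2]; simp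
  obtain ⟨e⟩ := Function.Embedding.nonempty_of_card_le hcard
  let x : Fin 5 ↪ GolayPt := e.trans (Function.Embedding.subtype _)
  have hx : ∀ i, x i ∈ dᶜ := fun i => (e i).2
  obtain ⟨g0, _, huniq⟩ := existsUnique_stab_dodecad hdc x x hx hx
  have h1 := huniq g ⟨⟨hg, hgd⟩, fun i => hfix _ (Finset.mem_compl.mp (hx i))⟩
  have h2 := huniq 1 ⟨⟨M24.one_mem, one_smul _ _⟩, fun i => rfl⟩
  rw [h1, h2]


/-- `M11`: the stabilizer of a dodecad and a point of it -/
abbrev M11 (d : Finset GolayPt) (p : GolayPt) : Subgroup ↥M24 :=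
  stabilizer M24 d ⊓ stabilizer M24 p

/-- the stabilizer in `M11` of a further point -/
abbrev Hq (d : Finset GolayPt) (p q : GolayPt) : Subgroup ↥M24 :=
  stabilizer M24 d ⊓ stabilizer M24 p ⊓ stabilizer M24 q

theorem mem_M11 {d : Finset GolayPt} {p : GolayPt} {g : ↥M24} :
    g ∈ M11 d p ↔ (g : Equiv.Perm GolayPt) • d = d ∧ (g : Equiv.Perm GolayPt) p = p := by
  simp only [M11, Subgroup.mem_inf, mem_stabilizer_iff]
  rfl

theorem mem_Hq {d : Finset GolayPt} {p q : GolayPt} {g : ↥M24} :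
    g ∈ Hq d p q ↔ (g : Equiv.Perm GolayPt) • d = d ∧ (g : Equiv.Perm GolayPt) p = p ∧
      (g : Equiv.Perm GolayPt) q = q := by
  simp only [Hq, Subgroup.mem_inf, mem_stabilizer_iff, and_assoc]
  rfl

theorem apply_notMem_of_smul_eq {d : Finset GolayPt} {g : Equiv.Perm GolayPt} (hg : g • d = d)
    {x : GolayPt} (hx : x ∉ d) : g x ∉ d := by
  intro h
  rw [← hg, mem_smul_iff_inv_mem, perm_inv_apply] at h
  exact hx h

theorem card_Hq {d : Finset GolayPt} (hd : d ∈ dodecads) {p : GolayPt} (hp : p ∈ d)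
    {q : GolayPt} (hq : q ∉ d) : Nat.card (Hq d p q) = 660 := by
  classical
  have h1 : Nat.card (M11 d p) = 7920 := card_stab_dodecad_point hd hp
  have h2 : stabilizer (M11 d p) q = (stabilizer M24 q).subgroupOf (M11 d p) := by
    ext g
    simp only [mem_stabilizer_iff, Subgroup.mem_subgroupOf]
    rfl
  have h3 : Nat.card (stabilizer (M11 d p) q) = Nat.card (Hq d p q) := by
    rw [h2, ← Subgroup.inf_subgroupOf_left]
    exact Cfsg.Agent.Lib.Helper5.Ord360.card_subgroupOf_of_le inf_le_left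
  have h4 : orbit (M11 d p) q = ((dᶜ : Finset GolayPt) : Set GolayPt) := by
    ext x
    rw [Finset.mem_coe, Finset.mem_compl]
    constructor
    · rintro ⟨g, rfl⟩
      exact apply_notMem_of_smul_eq (mem_M11.mp g.2).1 hq
    · intro hx
      obtain ⟨g, ⟨hgM, hgd, hgp⟩, hgq⟩ := exists_map_outside hd hp hq hx
      exact ⟨⟨⟨g, hgM⟩, mem_M11.mpr ⟨hgd, hgp⟩⟩, hgq⟩
  have h5 : (stabilizer (M11 d p) q).index = 12 := by
    rw [index_stabilizer, h4, Set.ncard_coe_finset, Finset.card_compl, hd.2, card_golayPt]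
  have h6 := Subgroup.card_mul_index (stabilizer (M11 d p) q)
  rw [h5, h3, h1] at h6
  omega

/-- the eleven points outside the dodecad other than `q`, as a set acted on by `Hq` -/
def Om (d : Finset GolayPt) (p q : GolayPt) : SubMulAction ↥(Hq d p q) GolayPt where
  carrier := {x | x ∉ d ∧ x ≠ q}
  smul_mem' := by
    rintro g x ⟨hx1, hx2⟩
    have hg := mem_Hq.mp g.2
    refine ⟨apply_notMem_of_smul_eq hg.1 hx1, ?_⟩
    intro h
    apply hx2
    have h' : ((g : ↥M24) : Equiv.Perm GolayPt) x = ((g : ↥M24) : Equiv.Perm GolayPt) q :=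
      h.trans hg.2.2.symm
    exact (((g : ↥M24) : Equiv.Perm GolayPt)).injective h'

theorem card_Om {d : Finset GolayPt} (hd : d ∈ dodecads) {p q : GolayPt} (hq : q ∉ d) :
    Nat.card (Om d p q) = 11 := by
  classical
  have h1 : ((Om d p q : SubMulAction ↥(Hq d p q) GolayPt) : Set GolayPt) =
      ((dᶜ.erase q : Finset GolayPt) : Set GolayPt) := by
    ext x
    simp only [Finset.coe_erase, Finset.coe_compl, Set.mem_sdiff, Set.mem_compl_iff,
      Finset.mem_coe, Set.mem_singleton_iff]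
    rfl
  have h2 : Nat.card (Om d p q) = Nat.card ((Om d p q : SubMulAction ↥(Hq d p q) GolayPt) :
      Set GolayPt) := rfl
  rw [h2, h1, Nat.card_coe_set_eq, Set.ncard_coe_finset, Finset.card_erase_of_mem
    (Finset.mem_compl.mpr hq), Finset.card_compl, hd.2, card_golayPt]

instance faithful_Om {d : Finset GolayPt} [hd : Fact (d ∈ dodecads)] {p q : GolayPt} :
    FaithfulSMul ↥(Hq d p q) ↥(Om d p q) where
  eq_of_smul_eq_smul := by
    intro g1 g2 h
    have hg1 := mem_Hq.mp g1.2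
    have hg2 := mem_Hq.mp g2.2
    have key : ((g2 : ↥M24) : Equiv.Perm GolayPt)⁻¹ * ((g1 : ↥M24) : Equiv.Perm GolayPt) = 1 := by
      apply eq_one_of_fix_outside hd.out (M24.mul_mem (M24.inv_mem g2.1.2) g1.1.2)
      intro x hx
      rw [Equiv.Perm.mul_apply, Equiv.Perm.inv_eq_iff_eq]
      by_cases hxq : x = q
      · rw [hxq, hg1.2.2, hg2.2.2]
      · have := h ⟨x, hx, hxq⟩
        exact congrArg Subtype.val this
    apply Subtype.ext
    apply Subtype.ext
    exact (inv_mul_eq_one.mp key).symm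

theorem pretransitive_Om {d : Finset GolayPt} (hd : d ∈ dodecads) {p q : GolayPt} (hp : p ∈ d)
    (hq : q ∉ d) : IsPretransitive ↥(Hq d p q) ↥(Om d p q) where
  exists_smul_eq := by
    rintro ⟨x, hx, hxq⟩ ⟨y, hy, hyq⟩
    obtain ⟨g, ⟨hgM, hgd, hgp⟩, hgq, hgx⟩ := exists_map_outside_fix hd hp hq hx hy hxq hyq
    refine ⟨⟨⟨g, hgM⟩, mem_Hq.mpr ⟨hgd, hgp, hgq⟩⟩, ?_⟩
    apply Subtype.ext
    exact hgx

theorem simple_Hq {d : Finset GolayPt} (hd : d ∈ dodecads) {p q : GolayPt} (hp : p ∈ d)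
    (hq : q ∉ d) : IsSimpleGroup ↥(Hq d p q) := by
  have : Fact (d ∈ dodecads) := ⟨hd⟩
  have := pretransitive_Om hd hp hq
  exact simple_of_card_660 (Ω := ↥(Om d p q)) (card_Om hd hq) (card_Hq hd hp hq)

end Cfsg.Agent.Lib.Helper5.M11Pt
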